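import Cfsg.Agent.H721.SR.Base
import Cfsg.Prelude.Def_Classical

/-!
# TEAM SR (S4971): the rows `PSL_n(q)` (helper327)

* `n ≥ 3`: an element `x` of `SL_n(F)` with `tr x = 0 ≠ tr x⁻¹` is not real modulo scalars.
* `n = 2`: if `-1` is a square every element is inverted by an element with square `-1`; otherwise a transvection is
  not real.
-/

set_option autoImplicit false

namespace Cfsg.Agent.H327.SR

open Matrix Cfsg.Agent.H721.SR

open scoped MatrixGroups

section

variable {F : Type*} [Field F]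

/-- companion matrix of `X³ - a X² + b X - 1` -/
def comp (a b : F) : Matrix (Fin 3) (Fin 3) F := !![0, 0, 1; 1, 0, -b; 0, 1, a]

def comp' (a b : F) : Matrix (Fin 3) (Fin 3) F := !![b, 1, 0; -a, 0, 1; 1, 0, 0]

theorem comp_mul (a b : F) : comp a b * comp' a b = 1 := by
  ext i j
  fin_cases i <;> fin_cases j <;> simp [comp, comp', Matrix.mul_apply, Fin.sum_univ_three]

theorem det_comp (a b : F) : (comp a b).det = 1 := by
  simp [comp, Matrix.det_fin_three]

theorem trace_comp (a b : F) : (comp a b).trace = a := by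
  simp [comp, Matrix.trace, Fin.sum_univ_three]

theorem trace_comp' (a b : F) : (comp' a b).trace = b := by
  simp [comp', Matrix.trace, Fin.sum_univ_three]

theorem trace_fromBlocks {k m : Type*} [Fintype k] [Fintype m] (A : Matrix k k F) (D : Matrix m m F) :
    (fromBlocks A 0 0 D).trace = A.trace + D.trace := by
  simp [Matrix.trace, Fintype.sum_sum_type]

theorem coe_inv_eq {n : ℕ} {x : Matrix.SpecialLinearGroup (Fin n) F} {N' : Matrix (Fin n) (Fin n) F}
    (h : (x : Matrix (Fin n) (Fin n) F) * N' = 1) :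
    ((x⁻¹ : Matrix.SpecialLinearGroup (Fin n) F) : Matrix (Fin n) (Fin n) F) = N' := by
  have h6 : ((x⁻¹ : Matrix.SpecialLinearGroup (Fin n) F) : Matrix (Fin n) (Fin n) F) *
      (x : Matrix (Fin n) (Fin n) F) = 1 := by
    rw [← Matrix.SpecialLinearGroup.coe_mul, inv_mul_cancel, Matrix.SpecialLinearGroup.coe_one]
  calc _ = ((x⁻¹ : Matrix.SpecialLinearGroup (Fin n) F) : Matrix (Fin n) (Fin n) F) *
        ((x : Matrix (Fin n) (Fin n) F) * N') := by rw [h, mul_one]
    _ = N' := by rw [← mul_assoc, h6, one_mul]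

/-- an element with trace zero whose inverse has nonzero trace -/
theorem exists_trace (m : ℕ) : ∃ x : Matrix.SpecialLinearGroup (Fin (3 + m)) F,
    (x : Matrix (Fin (3 + m)) (Fin (3 + m)) F).trace = 0 ∧
    ((x⁻¹ : Matrix.SpecialLinearGroup (Fin (3 + m)) F) : Matrix (Fin (3 + m)) (Fin (3 + m)) F).trace ≠ 0 := by
  set a : F := -(m : F) with ha
  set b : F := 1 - (m : F) with hb
  let e : Fin 3 ⊕ Fin m ≃ Fin (3 + m) := finSumFinEquiv
  let M : Matrix (Fin 3 ⊕ Fin m) (Fin 3 ⊕ Fin m) F := fromBlocks (comp a b) 0 0 1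
  let M' : Matrix (Fin 3 ⊕ Fin m) (Fin 3 ⊕ Fin m) F := fromBlocks (comp' a b) 0 0 1
  have h1 : M * M' = 1 := by
    simp only [M, M', fromBlocks_multiply]
    rw [comp_mul]
    simp
  have h2 : M.det = 1 := by
    simp only [M]
    rw [det_fromBlocks_zero₂₁, det_comp, det_one, mul_one]
  let N : Matrix (Fin (3 + m)) (Fin (3 + m)) F := M.reindex e e
  let N' : Matrix (Fin (3 + m)) (Fin (3 + m)) F := M'.reindex e e
  have h3 : N * N' = 1 := by
    simp only [N, N', reindex_apply]
    rw [submatrix_mul_equiv, h1, submatrix_one_equiv]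
  have h4 : N.det = 1 := by
    simp only [N]
    rw [det_reindex_self, h2]
  have ht : ∀ (A : Matrix (Fin 3 ⊕ Fin m) (Fin 3 ⊕ Fin m) F), (A.reindex e e).trace = A.trace := by
    intro A
    simp only [Matrix.trace, reindex_apply, Matrix.diag_apply, submatrix_apply]
    exact Equiv.sum_comp e.symm fun i => A i i
  refine ⟨⟨N, h4⟩, ?_, ?_⟩
  · show N.trace = 0
    simp only [N, ht, M]
    rw [trace_fromBlocks, trace_comp, Matrix.trace_one, Fintype.card_fin, ha]
    ring
  · rw [coe_inv_eq (x := ⟨N, h4⟩) (N' := N') h3]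
    simp only [N', ht, M']
    rw [trace_fromBlocks, trace_comp', Matrix.trace_one, Fintype.card_fin, hb]
    intro h
    apply one_ne_zero (α := F)
    rw [← h]
    ring

/-- reality modulo scalars -/
theorem exists_scalar {n : ℕ} {x : Matrix.SpecialLinearGroup (Fin n) F}
    (h : IsConj (QuotientGroup.mk x : Matrix.ProjectiveSpecialLinearGroup (Fin n) F) (QuotientGroup.mk x)⁻¹) :
    ∃ (g : Matrix.SpecialLinearGroup (Fin n) F) (r : F), r ^ n = 1 ∧
      ((x⁻¹ : Matrix.SpecialLinearGroup (Fin n) F) : Matrix (Fin n) (Fin n) F) =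
        ((g * x * g⁻¹ : Matrix.SpecialLinearGroup (Fin n) F) : Matrix (Fin n) (Fin n) F) * scalar (Fin n) r := by
  obtain ⟨c, hc⟩ := isConj_iff.1 h
  obtain ⟨g, rfl⟩ := QuotientGroup.mk_surjective c
  rw [← QuotientGroup.mk_mul, ← QuotientGroup.mk_inv, ← QuotientGroup.mk_mul, ← QuotientGroup.mk_inv,
    QuotientGroup.eq] at hc
  obtain ⟨r, hr, hr'⟩ := Matrix.SpecialLinearGroup.mem_center_iff.1 hc
  refine ⟨g, r, by simpa using hr, ?_⟩
  rw [hr', ← Matrix.SpecialLinearGroup.coe_mul, mul_inv_cancel_left]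

theorem trace_conj {n : ℕ} (g x : Matrix.SpecialLinearGroup (Fin n) F) :
    ((g * x * g⁻¹ : Matrix.SpecialLinearGroup (Fin n) F) : Matrix (Fin n) (Fin n) F).trace =
      (x : Matrix (Fin n) (Fin n) F).trace := by
  rw [Matrix.SpecialLinearGroup.coe_mul, Matrix.trace_mul_comm, ← Matrix.SpecialLinearGroup.coe_mul,
    inv_mul_cancel_left]

theorem nrel_three (m : ℕ) : NRel (Matrix.ProjectiveSpecialLinearGroup (Fin (3 + m)) F) := by
  obtain ⟨x, h1, h2⟩ := exists_trace (F := F) m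
  refine ⟨QuotientGroup.mk x, fun h => h2 ?_⟩
  obtain ⟨g, r, -, hx⟩ := exists_scalar h
  rw [hx]
  have h3 : ((g * x * g⁻¹ : Matrix.SpecialLinearGroup (Fin (3 + m)) F) : Matrix (Fin (3 + m)) (Fin (3 + m)) F) *
      scalar (Fin (3 + m)) r = r • ((g * x * g⁻¹ : Matrix.SpecialLinearGroup (Fin (3 + m)) F) :
        Matrix (Fin (3 + m)) (Fin (3 + m)) F) := by
    ext i j
    simp [Matrix.scalar_apply, mul_comm]
  rw [h3, Matrix.trace_smul, trace_conj, h1, smul_zero]

/-! ### `n = 2` -/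

theorem coe_inv_two (a : Matrix.SpecialLinearGroup (Fin 2) F) :
    ((a⁻¹ : Matrix.SpecialLinearGroup (Fin 2) F) : Matrix (Fin 2) (Fin 2) F) = !![a.1 1 1, -a.1 0 1; -a.1 1 0, a.1 0 0] := by
  rw [Matrix.SpecialLinearGroup.coe_inv, Matrix.adjugate_fin_two]

theorem key_two (a : Matrix.SpecialLinearGroup (Fin 2) F) {x y z w : F} (h1 : x * w - y * z = 1) (h2 : x + w = 0)
    (h3 : x * a.1 0 0 + y * a.1 1 0 = a.1 1 1 * x - a.1 0 1 * z)
    (h4 : x * a.1 0 1 + y * a.1 1 1 = a.1 1 1 * y - a.1 0 1 * w)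
    (h5 : z * a.1 0 0 + w * a.1 1 0 = - a.1 1 0 * x + a.1 0 0 * z)
    (h6 : z * a.1 0 1 + w * a.1 1 1 = - a.1 1 0 * y + a.1 0 0 * w) :
    ∃ t : Matrix.SpecialLinearGroup (Fin 2) F, t * t = -1 ∧ t * a * t⁻¹ = a⁻¹ := by
  have hw : w = -x := by linear_combination h2
  subst hw
  obtain ⟨t, ht⟩ : ∃ t : Matrix.SpecialLinearGroup (Fin 2) F, (t : Matrix (Fin 2) (Fin 2) F) = !![x, y; z, -x] :=
    ⟨⟨!![x, y; z, -x], by rw [Matrix.det_fin_two_of]; exact h1⟩, rfl⟩
  refine ⟨t, ?_, ?_⟩
  · apply Subtype.ext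
    rw [Matrix.SpecialLinearGroup.coe_mul, Matrix.SpecialLinearGroup.coe_neg, Matrix.SpecialLinearGroup.coe_one, ht]
    ext i j
    fin_cases i <;> fin_cases j <;> simp [Matrix.mul_apply, Fin.sum_univ_two]
    · linear_combination -h1
    · ring
    · ring
    · linear_combination -h1
  · rw [mul_inv_eq_iff_eq_mul]
    apply Subtype.ext
    rw [Matrix.SpecialLinearGroup.coe_mul, Matrix.SpecialLinearGroup.coe_mul, coe_inv_two, ht]
    ext i j
    fin_cases i <;> fin_cases j <;> simp [Matrix.mul_apply, Fin.sum_univ_two]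
    · linear_combination h3
    · linear_combination h4
    · linear_combination h5
    · linear_combination h6

/-- `-1` is a square: every element of `SL₂` is inverted by an element with square `-1` -/
theorem exists_inverter {i : F} (hi : i * i = -1) (a : Matrix.SpecialLinearGroup (Fin 2) F) :
    ∃ t : Matrix.SpecialLinearGroup (Fin 2) F, t * t = -1 ∧ t * a * t⁻¹ = a⁻¹ := by
  have hdet := a.2
  rw [Matrix.det_fin_two] at hdet
  by_cases hr : a.1 1 0 = 0
  · by_cases hq : a.1 0 1 = 0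
    · refine key_two a (x := 0) (y := i) (z := i) (w := 0) ?_ ?_ ?_ ?_ ?_ ?_ <;> simp [hr, hq, hi, mul_comm]
    · refine key_two a (x := -i) (y := 0) (z := i * ((a.1 0 0 - a.1 1 1) / a.1 0 1)) (w := i) ?_ ?_ ?_ ?_ ?_ ?_
      · linear_combination -hi
      · ring
      · field_simp
        ring
      · ring
      · rw [hr]
        ring
      · rw [hr]
        field_simp
        ring
  · refine key_two a (x := i) (y := i * ((a.1 1 1 - a.1 0 0) / a.1 1 0)) (z := 0) (w := -i) ?_ ?_ ?_ ?_ ?_ ?_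
    · linear_combination -hi
    · ring
    · field_simp
      ring
    · ring
    · ring
    · field_simp
      ring

theorem neg_one_mem_center : (-1 : Matrix.SpecialLinearGroup (Fin 2) F) ∈
    Subgroup.center (Matrix.SpecialLinearGroup (Fin 2) F) := by
  rw [Subgroup.mem_center_iff]
  intro g
  rw [mul_neg, neg_mul, mul_one, one_mul]

theorem sr_two {i : F} (hi : i * i = -1) (g : Matrix.ProjectiveSpecialLinearGroup (Fin 2) F) : SR g := by
  obtain ⟨a, rfl⟩ := QuotientGroup.mk_surjective g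
  obtain ⟨t, h1, h2⟩ := exists_inverter hi a
  refine ⟨QuotientGroup.mk t, ?_, ?_⟩
  · rw [← QuotientGroup.mk_mul, h1]
    exact (QuotientGroup.eq_one_iff _).2 neg_one_mem_center
  · rw [← QuotientGroup.mk_mul, ← QuotientGroup.mk_inv, ← QuotientGroup.mk_mul, h2, QuotientGroup.mk_inv]

theorem nrel_two (h : ¬ IsSquare (-1 : F)) : NRel (Matrix.ProjectiveSpecialLinearGroup (Fin 2) F) := by
  have h2 : (2 : F) ≠ 0 := by
    intro h2
    apply h
    refine ⟨1, ?_⟩
    linear_combination -h2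
  obtain ⟨x, hxc⟩ : ∃ x : Matrix.SpecialLinearGroup (Fin 2) F, (x : Matrix (Fin 2) (Fin 2) F) = !![1, 1; 0, 1] :=
    ⟨⟨!![1, 1; 0, 1], by rw [Matrix.det_fin_two_of]; ring⟩, rfl⟩
  refine ⟨QuotientGroup.mk x, fun hc => ?_⟩
  obtain ⟨g, r, hr, hx⟩ := exists_scalar hc
  have hdet := g.2
  rw [Matrix.det_fin_two] at hdet
  have e1 : ((x⁻¹ : Matrix.SpecialLinearGroup (Fin 2) F) : Matrix (Fin 2) (Fin 2) F) * (g : Matrix (Fin 2) (Fin 2) F) =
      (g : Matrix (Fin 2) (Fin 2) F) * (x : Matrix (Fin 2) (Fin 2) F) * scalar (Fin 2) r := by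
    have h3 : (scalar (Fin 2) r) * (g : Matrix (Fin 2) (Fin 2) F) = (g : Matrix (Fin 2) (Fin 2) F) * scalar (Fin 2) r :=
      (scalar_commute r (Commute.all r) _).eq
    rw [hx, mul_assoc, h3, ← mul_assoc, ← Matrix.SpecialLinearGroup.coe_mul, inv_mul_cancel_right,
      Matrix.SpecialLinearGroup.coe_mul]
  rw [coe_inv_two] at e1
  have f00 := congrFun (congrFun e1 0) 0
  have f01 := congrFun (congrFun e1 0) 1
  have f10 := congrFun (congrFun e1 1) 0
  have f11 := congrFun (congrFun e1 1) 1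
  simp [hxc, Matrix.mul_apply, Fin.sum_univ_two, Matrix.scalar_apply] at f00 f01 f10 f11
  have hr1 : (r - 1) * (r + 1) = 0 := by linear_combination hr
  rcases mul_eq_zero.1 hr1 with h3 | h3
  · have hr2 : r = 1 := by linear_combination h3
    rw [hr2] at f00 f01
    have h4 : g.1 1 0 = 0 := by linear_combination -f00
    have h5 : g.1 1 1 = -g.1 0 0 := by linear_combination -f01
    apply h
    refine ⟨g.1 0 0, ?_⟩
    have h6 : g.1 0 0 * g.1 1 1 - g.1 0 1 * g.1 1 0 = 1 := hdet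
    rw [h4, h5] at h6
    linear_combination h6
  · have hr2 : r = -1 := by linear_combination h3
    rw [hr2] at f10 f11
    have h4 : g.1 1 0 = 0 := by
      have : 2 * g.1 1 0 = 0 := by linear_combination f10
      exact (mul_eq_zero.1 this).resolve_left h2
    have h5 : g.1 1 1 = 0 := by
      have : 2 * g.1 1 1 = 0 := by linear_combination f11 - h4
      exact (mul_eq_zero.1 this).resolve_left h2
    have h6 : g.1 0 0 * g.1 1 1 - g.1 0 1 * g.1 1 0 = 1 := hdet
    rw [h4, h5] at h6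
    simp at h6

end

/-- **The rows `PSL_n(q)`.** -/
theorem rr_psl {S : Type*} [Group S] (h : Cfsg.IsPSL S) : RR S := by
  obtain ⟨F, _, _, n, hn, -, ⟨e⟩⟩ := h
  refine RR.congr e.symm ?_
  obtain rfl | hn := hn.eq_or_lt
  · by_cases h1 : IsSquare (-1 : F)
    · obtain ⟨i, hi⟩ := h1
      exact RR.of_sr (sr_two hi.symm)
    · exact RR.of_nrel (nrel_two h1)
  · obtain ⟨m, rfl⟩ := Nat.exists_eq_add_of_lt hn
    have : 2 + m + 1 = 3 + m := by ring
    rw [this]
    exact RR.of_nrel (nrel_three m)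

end Cfsg.Agent.H327.SR
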